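import Groth.Agent.NLLib.BcCompare
import Groth.Agent.DRingLib.HomProj
import Groth.Agent.DRingLib.TwoTermExt
import Mathlib.RingTheory.Etale.Kaehler
import Mathlib.RingTheory.Kaehler.JacobiZariski

/-!
A criterion for the comparison map of naive cotangent complexes along an ind-étale square to be a
quasi-isomorphism.
-/

set_option autoImplicit false
set_option linter.style.haveILetI false
set_option backward.isDefEq.respectTransparency false

universe u

open CategoryTheory CategoryTheory.Limits TensorProduct Algebra KaehlerDifferential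

noncomputable section

namespace Groth.Agent.NLHensLib

open NLLib in
theorem quasiIso_dblMap {T : Type u} [CommRing T] {X₀ X₁ Y₀ Y₁ : ModuleCat.{u} T}
    (d : X₀ ⟶ X₁) (d' : Y₀ ⟶ Y₁) (a : X₀ ⟶ Y₀) (b : X₁ ⟶ Y₁) (comm : a ≫ d' = d ≫ b)
    (inj : ∀ x, d.hom x = 0 → a.hom x = 0 → x = 0)
    (surj : ∀ y, d'.hom y = 0 → ∃ x, d.hom x = 0 ∧ a.hom x = y)
    (inj' : ∀ x v, b.hom x = d'.hom v → ∃ w, d.hom w = x)
    (surj' : ∀ y, ∃ x v, b.hom x = y + d'.hom v) :
    QuasiIso (dblMap d d' a b comm) := by
  have ne : (-1 : ℤ) ≠ 0 := by decide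
  let p₀ := (HomologicalComplex.doubleXIso₀ d rel_neg).toLinearEquiv
  let p₁ := (HomologicalComplex.doubleXIso₁ d rel_neg ne).toLinearEquiv
  let q₀ := (HomologicalComplex.doubleXIso₀ d' rel_neg).toLinearEquiv
  let q₁ := (HomologicalComplex.doubleXIso₁ d' rel_neg ne).toLinearEquiv
  have hd : ∀ x, p₁ (((dbl d).d (-1) 0).hom x) = d.hom (p₀ x) := by
    intro x
    rw [HomologicalComplex.double_d _ _ ne]
    exact LinearEquiv.apply_symm_apply p₁ _
  have hd' : ∀ x, q₁ (((dbl d').d (-1) 0).hom x) = d'.hom (q₀ x) := by
    intro x
    rw [HomologicalComplex.double_d _ _ ne]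
    exact LinearEquiv.apply_symm_apply q₁ _
  have hf₀ : ∀ x, q₀ (((dblMap d d' a b comm).f (-1)).hom x) = a.hom (p₀ x) := by
    intro x
    rw [dblMap_f₀]
    exact LinearEquiv.apply_symm_apply q₀ _
  have hf₁ : ∀ x, q₁ (((dblMap d d' a b comm).f 0).hom x) = b.hom (p₁ x) := by
    intro x
    rw [dblMap_f₁]
    exact LinearEquiv.apply_symm_apply q₁ _
  have hz : ∀ {X₀ X₁ : ModuleCat.{u} T} (d : X₀ ⟶ X₁) (n : ℤ), n ≠ -1 → n ≠ 0 →
      Subsingleton ((dbl d).X n) := fun d n h1 h0 =>
    ModuleCat.subsingleton_of_isZero (HomologicalComplex.isZero_double_X _ _ n h1 h0)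
  refine DRingLib.quasiIso_of_elements _ (fun n x hx hw => ?_) (fun n y hy => ?_)
  · obtain ⟨w, hw⟩ := hw
    by_cases h1 : n = -1
    · subst h1
      haveI := hz d' (-1 - 1) (by decide) (by decide)
      have ha : a.hom (p₀ x) = 0 := by
        rw [← hf₀, ← hw, Subsingleton.elim w 0, map_zero, map_zero]
      have hd0 : d.hom (p₀ x) = 0 := by rw [← hd]; exact (congrArg p₁ hx).trans (map_zero _)
      exact ⟨0, by rw [map_zero]; exact (p₀.map_eq_zero_iff.1 (inj _ hd0 ha)).symm⟩
    by_cases h0 : n = 0
    · subst h0
      obtain ⟨v, hv⟩ := inj' (p₁ x) (q₀ w) (by rw [← hf₁, ← hw]; exact hd' w)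
      refine ⟨p₀.symm v, p₁.injective ?_⟩
      show p₁ (((dbl d).d (-1) 0).hom (p₀.symm v)) = _
      rw [hd, LinearEquiv.apply_symm_apply, hv]
    · haveI := hz d n h1 h0
      exact ⟨0, Subsingleton.elim _ _⟩
  · by_cases h1 : n = -1
    · subst h1
      obtain ⟨x, hx, hax⟩ := surj (q₀ y) (by rw [← hd']; exact (congrArg q₁ hy).trans (map_zero _))
      refine ⟨p₀.symm x, 0, p₁.injective ?_, q₀.injective ?_⟩
      · show p₁ (((dbl d).d (-1) 0).hom (p₀.symm x)) = p₁ 0
        rw [hd, LinearEquiv.apply_symm_apply, map_zero, hx]
      · rw [map_zero, add_zero, hf₀, LinearEquiv.apply_symm_apply, hax]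
    by_cases h0 : n = 0
    · subst h0
      obtain ⟨x, v, hx⟩ := surj' (q₁ y)
      refine ⟨p₁.symm x, q₀.symm v, ?_, q₁.injective ?_⟩
      · haveI := hz d (0 + 1) (by decide) (by decide)
        exact Subsingleton.elim _ _
      · rw [hf₁, LinearEquiv.apply_symm_apply, map_add]
        show _ = _ + q₁ (((dbl d').d (-1) 0).hom (q₀.symm v))
        rw [hd', LinearEquiv.apply_symm_apply, hx]
    · haveI := hz d' n h1 h0
      exact ⟨0, 0, map_zero _, Subsingleton.elim _ _⟩

variable {R S R' T : Type u} [CommRing R] [CommRing S] [CommRing R'] [CommRing T] [Algebra R S]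
  [Algebra R' T] [Algebra R R'] [Algebra S T] [Algebra R T] [IsScalarTower R R' T] [IsScalarTower R S T]

theorem toKaehler_map {P : Extension.{u} R S} {P' : Extension.{u} R' T} (f : P.Hom P') (x : P.CotangentSpace) :
    P'.toKaehler (Extension.CotangentSpace.map f x) = KaehlerDifferential.map R R' S T (P.toKaehler x) := by
  induction x using TensorProduct.induction_on with
  | zero => simp
  | tmul s y =>
    have hy : y ∈ Submodule.span P.Ring (Set.range (D R P.Ring)) :=
      KaehlerDifferential.span_range_derivation R P.Ring ▸ Submodule.mem_top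
    induction hy using Submodule.span_induction generalizing s with
    | mem x hx =>
      obtain ⟨a, rfl⟩ := hx
      rw [Extension.CotangentSpace.map_tmul]
      simp [KaehlerDifferential.mapBaseChange_tmul, f.algebraMap_toRingHom]
    | zero => simp
    | add x y _ _ hx hy => simp only [TensorProduct.tmul_add, map_add, hx, hy]
    | smul r x _ hx =>
      rw [← TensorProduct.smul_tmul]
      exact hx _
  | add a b ha hb => simp only [map_add, ha, hb]

variable (R R' T) in
/-- `H¹(L_{T/R}) → H¹(L_{T/R'})` is injective when `R → R'` has vanishing naive cotangent complex. -/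
theorem h1Map_injective [Subsingleton (H1Cotangent R R')] [Subsingleton Ω[R'⁄R]] :
    Function.Injective (H1Cotangent.map R R' T T) := by
  let P := Generators.self R R'
  let Q := Generators.self R' T
  let W := Generators.self R T
  have hc : Function.Injective (P.toExtension.cotangentComplex.baseChange T) := by
    have hs : Subsingleton P.toExtension.H1Cotangent := ‹Subsingleton (H1Cotangent R R')›
    have hb : Function.Bijective P.toExtension.cotangentComplex := by
      refine ⟨(injective_iff_map_eq_zero _).2 fun x hx => ?_, fun y => ?_⟩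
      · exact congrArg Subtype.val (hs.elim (⟨x, hx⟩ : P.toExtension.H1Cotangent) 0)
      · exact (P.toExtension.exact_cotangentComplex_toKaehler y).1 (Subsingleton.elim _ _)
    exact ((LinearEquiv.ofBijective _ hb).baseChange R' T).injective
  have h0 : Function.Injective (Extension.H1Cotangent.map (Q.ofComp P).toExtensionHom) := by
    refine (injective_iff_map_eq_zero _).2 fun ⟨x, hx⟩ h => Subtype.ext ?_
    obtain ⟨w, rfl⟩ := (Generators.Cotangent.exact Q P x).1 (congrArg Subtype.val h)
    have hw := Generators.CotangentSpace.map_toComp_injective Q P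
      ((congrArg (fun φ => φ w) (Generators.H1Cotangent.map_comp_cotangentComplex_baseChange Q P)).trans
        (hx.trans (map_zero _).symm))
    show LinearMap.liftBaseChange T (Extension.Cotangent.map (Q.toComp P).toExtensionHom) w = 0
    rw [show w = 0 from hc (hw.trans (map_zero _).symm), map_zero]
  have e : H1Cotangent.map R R' T T = (Extension.H1Cotangent.map (Q.ofComp P).toExtensionHom).restrictScalars T ∘ₗ
      Extension.H1Cotangent.map (W.defaultHom (Q.comp P)).toExtensionHom := by
    rw [← Extension.H1Cotangent.map_comp]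
    exact Extension.H1Cotangent.map_eq _ _
  rw [e]
  exact h0.comp (Extension.H1Cotangent.equiv (W.defaultHom (Q.comp P)).toExtensionHom
    ((Q.comp P).defaultHom W).toExtensionHom).injective

/-- The criterion. -/
theorem quasiIso_bcMapSelf [Module.Flat S T] [FormallyEtale S T] [FormallyEtale R R']
    (hbij : Function.Bijective ((H1Cotangent.map R R S T).liftBaseChange T)) :
    QuasiIso (NLCx.bcMapSelf R S R' T) := by
  haveI : Subsingleton (H1Cotangent R R') := inferInstance
  haveI : Subsingleton Ω[R'⁄R] := inferInstance
  let G := Generators.self R S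
  let G' := Generators.self R' T
  let f := (G.defaultHom G').toExtensionHom
  let P := G.toExtension
  let P' := G'.toExtension
  -- degree `-1`
  have hΦ : Function.Bijective ((H1Cotangent.map R R' S T).liftBaseChange T) := by
    have e : (H1Cotangent.map R R' S T).liftBaseChange T =
        H1Cotangent.map R R' T T ∘ₗ (H1Cotangent.map R R S T).liftBaseChange T := by
      rw [LinearMap.liftBaseChange_comp]
      congr 1
      refine Eq.trans ?_ (Extension.H1Cotangent.map_comp
        (((Generators.self R S).defaultHom (Generators.self R T)).toExtensionHom)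
        (((Generators.self R T).defaultHom (Generators.self R' T)).toExtensionHom))
      exact Extension.H1Cotangent.map_eq _ _
    rw [e, LinearMap.coe_comp]
    refine Function.Bijective.comp ⟨h1Map_injective R R' T, fun y => ?_⟩ hbij
    exact (H1Cotangent.exact_map_δ R R' T y).1 (Subsingleton.elim _ _)
  -- degree `0`
  have hΨ : Function.Bijective ((KaehlerDifferential.map R R' S T).liftBaseChange T) := by
    have e : (KaehlerDifferential.map R R' S T).liftBaseChange T =
        (KaehlerDifferential.map R R' T T) ∘ₗ (KaehlerDifferential.map R R S T).liftBaseChange T := by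
      apply LinearMap.ext
      intro x
      induction x using TensorProduct.induction_on with
      | zero => simp only [map_zero]
      | add x y hx hy => simp only [map_add, hx, hy]
      | tmul t ω =>
        have hω : KaehlerDifferential.map R R' S T ω =
            KaehlerDifferential.map R R' T T (KaehlerDifferential.map R R S T ω) := by
          obtain ⟨c, rfl⟩ := KaehlerDifferential.linearCombination_surjective R S ω
          induction c using Finsupp.induction_linear with
          | zero => simp
          | add a b ha hb => simp only [map_add, ha, hb]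
          | single a r =>
            rw [Finsupp.linearCombination_single, map_smul, map_smul,
              ← algebraMap_smul T r (KaehlerDifferential.map R R S T (D R S a)), map_smul,
              algebraMap_smul]
            simp
        simp [hω]
    rw [e, LinearMap.coe_comp]
    refine Function.Bijective.comp ⟨?_, KaehlerDifferential.map_surjective_of_surjective _ _ _ _ Function.surjective_id⟩
      (KaehlerDifferential.isBaseChange_of_formallyEtale R S T)
    refine (injective_iff_map_eq_zero _).2 fun x hx => ?_
    obtain ⟨y, rfl⟩ := (KaehlerDifferential.exact_mapBaseChange_map R R' T x).1 hx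
    rw [Subsingleton.elim y 0, map_zero]
  have hex : Function.Exact (Extension.h1Cotangentι (P := P) |>.baseChange T) (P.cotangentComplex.baseChange T) :=
    Module.Flat.lTensor_exact T (LinearMap.exact_subtype_ker_map _)
  have hex' : Function.Exact (P.cotangentComplex.baseChange T) (P.toKaehler.baseChange T) :=
    lTensor_exact T P.exact_cotangentComplex_toKaehler P.toKaehler_surjective
  have hι : ∀ z, LinearMap.liftBaseChange T (Extension.Cotangent.map f) ((Extension.h1Cotangentι (P := P)).baseChange T z) =
      ((H1Cotangent.map R R' S T).liftBaseChange T z).1 := by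
    intro z
    induction z using TensorProduct.induction_on with
    | zero => simp
    | add x y hx hy => simp only [map_add, hx, hy]; rfl
    | tmul t x => simp; rfl
  have hK : ∀ z, P'.toKaehler (LinearMap.liftBaseChange T (Extension.CotangentSpace.map f) z) =
      (KaehlerDifferential.map R R' S T).liftBaseChange T (P.toKaehler.baseChange T z) := by
    intro z
    induction z using TensorProduct.induction_on with
    | zero => simp only [map_zero]
    | add x y hx hy => simp only [map_add, hx, hy]
    | tmul t x =>
      rw [LinearMap.liftBaseChange_tmul, LinearMap.baseChange_tmul, LinearMap.liftBaseChange_tmul, map_smul]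
      exact congrArg (t • ·) (toKaehler_map f x)
  show QuasiIso (NLCx.bcMap f)
  rw [NLLib.bcMap_eq _ (NLLib.bc_comm _)]
  refine quasiIso_dblMap _ _ _ _ _ (fun x hx hax => ?_) (fun y hy => ?_) (fun x v hxv => ?_) fun y => ?_
  · obtain ⟨z, rfl⟩ := (hex x).1 hx
    have h0 : (H1Cotangent.map R R' S T).liftBaseChange T z = 0 := Subtype.ext ((hι z).symm.trans hax)
    rw [hΦ.1 (h0.trans (map_zero _).symm), map_zero]
  · obtain ⟨z, hz⟩ := hΦ.2 ⟨y, hy⟩
    exact ⟨(Extension.h1Cotangentι (P := P)).baseChange T z, (hex _).2 ⟨z, rfl⟩,
      (hι z).trans (congrArg Subtype.val hz)⟩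
  · refine (hex' x).1 (hΨ.1 ?_)
    rw [map_zero]
    refine (hK x).symm.trans ((congrArg P'.toKaehler hxv).trans ?_)
    exact P'.exact_cotangentComplex_toKaehler.apply_apply_eq_zero v
  · obtain ⟨z, hz⟩ := hΨ.2 (P'.toKaehler y)
    obtain ⟨x, rfl⟩ := LinearMap.lTensor_surjective T P.toKaehler_surjective z
    have : P'.toKaehler (LinearMap.liftBaseChange T (Extension.CotangentSpace.map f) x - y) = 0 := by
      rw [map_sub, hK, sub_eq_zero]
      exact hz
    obtain ⟨v, hv⟩ := (P'.exact_cotangentComplex_toKaehler _).1 this
    exact ⟨x, v, (eq_add_of_sub_eq' hv.symm).trans rfl⟩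

end Groth.Agent.NLHensLib
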