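import Mathlib

/-!
Base change of `H¹` of the naive cotangent complex along algebras which lift, flatly and formally
étale, along every surjection of local rings.
-/

set_option autoImplicit false
set_option backward.isDefEq.respectTransparency false
set_option backward.defeqAttrib.useBackward true
set_option linter.style.haveILetI false

universe u

open Algebra TensorProduct

namespace Groth.Agent.NLHensLib

/-- `T` lifts along every surjection of local rings onto `B` to a flat formally étale algebra. -/
def Lifts (B T : Type u) [CommRing B] [CommRing T] [Algebra B T] : Prop :=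
  ∀ (P : Type u) [CommRing P] [IsLocalRing P] (ψ : P →+* B), Function.Surjective ψ →
    ∃ (Q : Type u) (_ : CommRing Q) (_ : Algebra P Q), Module.Flat P Q ∧ FormallyEtale P Q ∧
      ∃ q : Q →+* T, Function.Surjective q ∧ q.comp (algebraMap P Q) = (algebraMap B T).comp ψ ∧
        RingHom.ker q ≤ (RingHom.ker ψ).map (algebraMap P Q)

theorem bijective_h1Map (R S T : Type u) [CommRing R] [CommRing S] [IsLocalRing S] [CommRing T] [Algebra R S]
    [Algebra S T] [Algebra R T] [IsScalarTower R S T] [Module.Flat S T] (hT : Lifts S T) :
    Function.Bijective ((Algebra.H1Cotangent.map R R S T).liftBaseChange T) := by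
  let P : Extension R S := (Generators.self R S).toExtension
  letI := ((algebraMap S T).comp (algebraMap P.Ring S)).toAlgebra
  haveI : IsScalarTower P.Ring S T := .of_algebraMap_eq' rfl
  let 𝔭 : Ideal P.Ring := (IsLocalRing.maximalIdeal S).comap (algebraMap P.Ring S)
  haveI : 𝔭.IsPrime := Ideal.IsPrime.comap _
  have hunit : ∀ m : 𝔭.primeCompl, IsUnit (algebraMap P.Ring S m) := fun m =>
    not_not.1 fun h => m.2 h
  let ψ : Localization.AtPrime 𝔭 →+* S := IsLocalization.lift hunit
  have hψc : ∀ x : P.Ring, ψ (algebraMap P.Ring _ x) = algebraMap P.Ring S x :=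
    fun x => IsLocalization.lift_eq hunit x
  have hψs : Function.Surjective ψ := fun s => by
    obtain ⟨x, rfl⟩ := P.algebraMap_surjective s
    exact ⟨_, hψc x⟩
  obtain ⟨E, _, _, _, _, q, hqs, hqc, hqk⟩ := hT (Localization.AtPrime 𝔭) ψ hψs
  letI : Algebra P.Ring E := ((algebraMap (Localization.AtPrime 𝔭) E).comp (algebraMap P.Ring _)).toAlgebra
  haveI : IsScalarTower P.Ring (Localization.AtPrime 𝔭) E := .of_algebraMap_eq' rfl
  haveI : FormallyEtale P.Ring (Localization.AtPrime 𝔭) := FormallyEtale.of_isLocalization 𝔭.primeCompl
  haveI : FormallyEtale P.Ring E := FormallyEtale.comp P.Ring (Localization.AtPrime 𝔭) E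
  haveI : Module.Flat P.Ring E := Module.Flat.trans P.Ring (Localization.AtPrime 𝔭) E
  letI : Algebra R E := ((algebraMap P.Ring E).comp (algebraMap R P.Ring)).toAlgebra
  haveI : IsScalarTower R P.Ring E := .of_algebraMap_eq' rfl
  have hqP : ∀ x : P.Ring, q (algebraMap P.Ring E x) = algebraMap S T (algebraMap P.Ring S x) := fun x =>
    (RingHom.congr_fun hqc _).trans (congrArg (algebraMap S T) (hψc x))
  let qR : E →ₐ[R] T := { q with
    commutes' := fun r => (hqP _).trans (by
      rw [← IsScalarTower.algebraMap_apply R P.Ring S, ← IsScalarTower.algebraMap_apply R S T]) }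
  letI Q : Extension R T := .ofSurjective qR hqs
  letI h : P.Hom Q :=
  { toRingHom := algebraMap P.Ring E
    toRingHom_algebraMap x := (IsScalarTower.algebraMap_apply R P.Ring E x).symm
    algebraMap_toRingHom x := hqP x }
  haveI : FormallySmooth R P.Ring := inferInstanceAs (FormallySmooth R (MvPolynomial _ _))
  haveI : FormallySmooth R Q.Ring := FormallySmooth.comp R P.Ring E
  letI : Algebra P.Ring Q.Ring := (inferInstance : Algebra P.Ring E)
  haveI : Module.Flat P.Ring Q.Ring := inferInstanceAs (Module.Flat P.Ring E)
  haveI : FormallyEtale P.Ring Q.Ring := inferInstanceAs (FormallyEtale P.Ring E)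
  have hker : (RingHom.ker ψ).map (algebraMap (Localization.AtPrime 𝔭) E) ≤ P.ker.map (algebraMap P.Ring E) := by
    rw [Ideal.map_le_iff_le_comap]
    intro z hz
    obtain ⟨x, s, rfl⟩ := IsLocalization.exists_mk'_eq 𝔭.primeCompl z
    have hx : x ∈ P.ker := by
      have h1 : ψ (IsLocalization.mk' _ x s) * algebraMap P.Ring S s = algebraMap P.Ring S x := by
        rw [← hψc, ← map_mul, IsLocalization.mk'_spec, hψc]
      rw [show ψ (IsLocalization.mk' _ x s) = 0 from hz, zero_mul] at h1
      exact h1.symm
    rw [Ideal.mem_comap]
    refine (Ideal.mul_unit_mem_iff_mem _ ((IsLocalization.map_units (Localization.AtPrime 𝔭) s).map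
      (algebraMap (Localization.AtPrime 𝔭) E))).1 ?_
    rw [← map_mul, IsLocalization.mk'_spec]
    exact Ideal.mem_map_of_mem (algebraMap P.Ring E) hx
  have H₂ : Function.Bijective ((h.mapKer rfl).liftBaseChange Q.Ring) := by
    let L := (h.mapKer rfl).liftBaseChange Q.Ring
    have hL : ∀ z, ((L z : Q.ker) : Q.Ring) =
        TensorProduct.rid P.Ring Q.Ring (LinearMap.lTensor Q.Ring P.ker.subtype z) := by
      intro z
      induction z with
      | zero => simp
      | add a b ha hb => rw [map_add, map_add, map_add, Submodule.coe_add, ha, hb]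
      | tmul a b =>
        simp only [L, LinearMap.liftBaseChange_tmul, LinearMap.lTensor_tmul, TensorProduct.rid_tmul,
          SetLike.val_smul, smul_eq_mul, Algebra.smul_def]
        exact mul_comm _ _
    refine ⟨fun a b hab => ?_, fun y => ?_⟩
    · refine Module.Flat.lTensor_preserves_injective_linearMap (M := Q.Ring) _ P.ker.injective_subtype ?_
      exact (TensorProduct.rid P.Ring Q.Ring).injective
        (by rw [← hL, ← hL]; exact congrArg Subtype.val hab)
    · have hy : (y.1 : E) ∈ P.ker.map (algebraMap P.Ring E) := hker (hqk y.2)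
      have hle : (P.ker.map (algebraMap P.Ring E) : Ideal Q.Ring) ≤
          LinearMap.range ((Q.ker.subtype).comp L) := by
        rw [Ideal.map, Ideal.span_le]
        rintro _ ⟨p, hp, rfl⟩
        exact ⟨1 ⊗ₜ ⟨p, hp⟩, (hL _).trans (by simp [Algebra.smul_def]; rfl)⟩
      obtain ⟨w, hw⟩ := hle hy
      exact ⟨w, Subtype.ext hw⟩
  have hbij : Function.Bijective ((Extension.H1Cotangent.map h).liftBaseChange T) :=
    (Extension.tensorH1CotangentOfFormallyEtale h rfl
      (RingHom.formallyEtale_algebraMap.mpr inferInstance) H₂).bijective
  -- compare with the standard generators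
  letI d : (Generators.self R T).toExtension.Hom Q :=
  { toRingHom := (MvPolynomial.aeval Q.σ).toRingHom
    toRingHom_algebraMap := (MvPolynomial.aeval Q.σ).commutes
    algebraMap_toRingHom := by
      have : (IsScalarTower.toAlgHom R Q.Ring T).comp (MvPolynomial.aeval Q.σ) =
          IsScalarTower.toAlgHom _ (Generators.self R T).toExtension.Ring _ := by
        ext i
        change _ = algebraMap (Generators.self R T).Ring _ (.X i)
        simp
      exact DFunLike.congr_fun this }
  haveI : FormallySmooth R (Generators.self R T).toExtension.Ring :=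
    inferInstanceAs (FormallySmooth R (MvPolynomial _ _))
  have hd : Function.Bijective (Extension.H1Cotangent.map d) := by
    have : ⇑(Extension.H1Cotangent.map d) =
        Extension.H1Cotangent.equivOfFormallySmooth (Generators.self R T).toExtension Q :=
      funext fun x => (Extension.H1Cotangent.equivOfFormallySmooth_apply d x).symm
    rw [this]
    exact LinearEquiv.bijective _
  have hfac : (Extension.H1Cotangent.map d).comp ((Algebra.H1Cotangent.map R R S T).liftBaseChange T) =
      (Extension.H1Cotangent.map h).liftBaseChange T := by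
    ext x : 3
    simp only [AlgebraTensorModule.curry_apply, TensorProduct.curry_apply, LinearMap.coe_restrictScalars,
      LinearMap.coe_comp, Function.comp_apply, LinearMap.liftBaseChange_tmul, one_smul]
    rw [Algebra.H1Cotangent.map, ← (Extension.H1Cotangent.map d).coe_restrictScalars S,
      ← LinearMap.comp_apply, ← Extension.H1Cotangent.map_comp, Extension.H1Cotangent.map_eq _ h]
    exact ((LinearMap.liftBaseChange_tmul T (Extension.H1Cotangent.map h) 1 x).trans (one_smul T _)).symm
  rw [← hfac, LinearMap.coe_comp] at hbij
  exact (Function.Bijective.of_comp_iff' hd _).1 hbij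

end Groth.Agent.NLHensLib
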