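import Groth.Agent.NLHensLib.H1
import Groth.Agent.HensBranch.QuotStage
import Groth.Agent.Henselization.Properties

/-!
(Strict) henselizations lift along surjections of local rings.
-/

set_option autoImplicit false

universe u

namespace Groth.Agent.NLHensLib

open IsLocalRing Henselization

noncomputable section

variable (B T : Type u) [CommRing B] [IsLocalRing B] [CommRing T] [IsLocalRing T] [Algebra B T]
  [IsLocalHom (algebraMap B T)]

theorem lifts_of (Hz' : ∀ (P : Type u) [CommRing P] [IsLocalRing P], Type u)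
    [∀ (P : Type u) [CommRing P] [IsLocalRing P], CommRing (Hz' P)]
    [∀ (P : Type u) [CommRing P] [IsLocalRing P], IsLocalRing (Hz' P)]
    [∀ (P : Type u) [CommRing P] [IsLocalRing P], Algebra P (Hz' P)]
    [∀ (P : Type u) [CommRing P] [IsLocalRing P], IsLocalHom (algebraMap P (Hz' P))]
    (hflat : ∀ (P : Type u) [CommRing P] [IsLocalRing P], Module.Flat P (Hz' P))
    (het : ∀ (P : Type u) [CommRing P] [IsLocalRing P], Algebra.FormallyEtale P (Hz' P))
    (huniq : ∀ (P : Type u) [CommRing P] [IsLocalRing P] (A S : Type u) [CommRing A] [IsLocalRing A]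
      [Algebra P A] [IsLocalHom (algebraMap P A)] [CommRing S] [IsLocalRing S] [Algebra A S]
      [IsLocalHom (algebraMap A S)] (π : Hz' P →+* S) [IsLocalHom π],
      Function.Surjective (algebraMap P A) → Function.Surjective π →
      RingHom.ker π = (RingHom.ker (algebraMap P A)).map (algebraMap P (Hz' P)) →
      π.comp (algebraMap P (Hz' P)) = (algebraMap A S).comp (algebraMap P A) →
      ∀ [Algebra B A], Function.Bijective (algebraMap B A) →
      ∃ e : S ≃+* T, ∀ b : B, e (algebraMap A S (algebraMap B A b)) = algebraMap B T b) :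
    Lifts B T := by
  intro P _ _ ψ hψ
  letI : Algebra P B := ψ.toAlgebra
  haveI : IsLocalHom (algebraMap P B) := IsLocalHom.of_surjective ψ hψ
  let J := (RingHom.ker ψ).map (algebraMap P (Hz' P))
  have hJ : J ≤ maximalIdeal (Hz' P) := Ideal.map_le_iff_le_comap.mpr fun a ha =>
    map_nonunit (algebraMap P (Hz' P)) a
      ((IsLocalRing.mem_maximalIdeal a).mpr fun hu => not_isUnit_zero (RingHom.mem_ker.mp ha ▸ hu.map ψ))
  haveI : Nontrivial (Hz' P ⧸ J) := Ideal.Quotient.nontrivial_iff.mpr fun h =>
    (maximalIdeal.isMaximal (Hz' P)).ne_top (top_le_iff.mp (h.ge.trans hJ))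
  haveI : IsLocalRing (Hz' P ⧸ J) :=
    IsLocalRing.of_surjective' (Ideal.Quotient.mk J) Ideal.Quotient.mk_surjective
  let π := Ideal.Quotient.mk J
  haveI : IsLocalHom π := IsLocalHom.of_surjective π Ideal.Quotient.mk_surjective
  let g₀ : {g : P →+* Hz' P ⧸ J // RingHom.ker ψ ≤ RingHom.ker g} := ⟨π.comp (algebraMap P (Hz' P)),
    fun a ha => Ideal.Quotient.eq_zero_iff_mem.mpr (Ideal.mem_map_of_mem _ ha)⟩
  letI : Algebra B (Hz' P ⧸ J) := (ψ.liftOfSurjective hψ g₀).toAlgebra
  have hcomp : π.comp (algebraMap P (Hz' P)) = (algebraMap B (Hz' P ⧸ J)).comp ψ :=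
    (RingHom.liftOfSurjective_comp ψ hψ g₀).symm
  haveI : IsLocalHom (algebraMap B (Hz' P ⧸ J)) := ⟨fun b hb => by
    obtain ⟨p, rfl⟩ := hψ b
    rw [← RingHom.comp_apply, ← hcomp] at hb
    exact ((isUnit_map_iff (algebraMap P (Hz' P)) p).1 ((isUnit_map_iff π _).1 hb)).map ψ⟩
  obtain ⟨e, he⟩ := huniq P B (Hz' P ⧸ J) π hψ Ideal.Quotient.mk_surjective Ideal.mk_ker hcomp
    (show Function.Bijective (algebraMap B B) from Function.bijective_id)
  refine ⟨Hz' P, inferInstance, inferInstance, hflat P, het P, e.toRingHom.comp π,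
    e.surjective.comp Ideal.Quotient.mk_surjective, RingHom.ext fun p => ?_, fun z hz => ?_⟩
  · show e (π (algebraMap P (Hz' P) p)) = algebraMap B T (ψ p)
    rw [← RingHom.comp_apply π, hcomp]
    exact he (ψ p)
  · exact Ideal.Quotient.eq_zero_iff_mem.1 (e.injective (by rw [map_zero]; exact hz))

theorem lifts_henselization [Hensel.IsHenselization B T] : Lifts B T := by
  haveI : ∀ (P : Type u) [CommRing P] [IsLocalRing P], IsLocalHom (algebraMap P (HenselizationRing P)) :=
    fun P _ _ => inferInstance
  refine lifts_of B T (fun P _ _ => HenselizationRing P) (fun P _ _ => inferInstance)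
    (fun P _ _ => inferInstance) ?_
  intro P _ _ A S _ _ _ _ _ _ _ _ π _ hA hπ hker hcomp _ hBA
  haveI := HensBranch.isHenselization_of_surjective π hA hπ hker hcomp
  let eBA : B ≃+* A := RingEquiv.ofBijective (algebraMap B A) hBA
  letI : Algebra B S := ((algebraMap A S).comp (algebraMap B A)).toAlgebra
  haveI : IsLocalHom (algebraMap B S) := by
    haveI : IsLocalHom (algebraMap B A) := ⟨fun b hb => by
      have := hb.map eBA.symm
      rwa [show algebraMap B A b = eBA b from rfl, eBA.symm_apply_apply] at this⟩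
    exact RingHom.isLocalHom_comp _ _
  haveI : Hensel.IsHenselization B S := by
    refine ⟨(inferInstance : Hensel.IsHenselization A S).henselian, fun T' _ _ f hf => ?_⟩
    haveI := hf
    haveI : IsLocalHom (f.comp eBA.symm.toRingHom) :=
      ⟨fun a ha => by simpa using ((isUnit_map_iff f _).1 ha).map eBA⟩
    obtain ⟨g, hg, hu⟩ := (inferInstance : Hensel.IsHenselization A S).universal T' (f.comp eBA.symm.toRingHom) inferInstance
    refine ⟨g, RingHom.ext fun b => ?_, fun g' hg' => hu g' (RingHom.ext fun a => ?_)⟩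
    · exact (RingHom.congr_fun hg (eBA b)).trans (congrArg f (eBA.symm_apply_apply b))
    · obtain ⟨b, rfl⟩ := hBA.2 a
      exact (RingHom.congr_fun hg' b).trans (congrArg f (eBA.symm_apply_apply b).symm)
  obtain ⟨e₁⟩ := exists_algEquiv_of_isHenselization B S
  obtain ⟨e₂⟩ := exists_algEquiv_of_isHenselization B T
  exact ⟨(e₁.symm.trans e₂).toRingEquiv, fun b => (e₁.symm.trans e₂).commutes b⟩

theorem lifts_strictHenselization [Hensel.IsStrictHenselization B T] : Lifts B T := by
  haveI : ∀ (P : Type u) [CommRing P] [IsLocalRing P], IsLocalHom (algebraMap P (StrictHenselizationRing P)) :=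
    fun P _ _ => inferInstance
  refine lifts_of B T (fun P _ _ => StrictHenselizationRing P) (fun P _ _ => inferInstance)
    (fun P _ _ => inferInstance) ?_
  intro P _ _ A S _ _ _ _ _ _ _ _ π _ hA hπ hker hcomp _ hBA
  haveI hAS := HensBranch.isStrictHenselization_of_surjective π hA hπ hker hcomp
  let eBA : B ≃+* A := RingEquiv.ofBijective (algebraMap B A) hBA
  haveI : IsLocalHom (algebraMap B A) := ⟨fun b hb => by
      have := hb.map eBA.symm
      rwa [show algebraMap B A b = eBA b from rfl, eBA.symm_apply_apply] at this⟩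
  letI : Algebra B S := ((algebraMap A S).comp (algebraMap B A)).toAlgebra
  haveI : IsLocalHom (algebraMap B S) := RingHom.isLocalHom_comp _ _
  haveI : Hensel.IsStrictHenselization B S := by
    let eR : ResidueField B ≃+* ResidueField A := RingEquiv.ofBijective (ResidueField.map (algebraMap B A))
      ⟨(ResidueField.map (algebraMap B A)).injective, fun x => by
        obtain ⟨a, rfl⟩ := residue_surjective x
        obtain ⟨b, rfl⟩ := hBA.2 a
        exact ⟨residue B b, ResidueField.map_residue _ b⟩⟩
    have hsq : ∀ x : ResidueField B, ResidueField.map (algebraMap B S) x =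
        ResidueField.map (algebraMap A S) (eR x) := fun x => by
      obtain ⟨b, rfl⟩ := residue_surjective x
      simp [eR, ResidueField.map_residue]
      rfl
    refine { henselian := hAS.henselian, isSepClosure := ?_, universal := ?_ }
    · haveI := hAS.isSepClosure
      haveI : IsSepClosed (ResidueField S) := IsSepClosure.sep_closed (ResidueField A)
      refine ⟨inferInstance, Algebra.IsSeparable.of_equiv_equiv eR.symm (RingEquiv.refl (ResidueField S)) ?_⟩
      refine RingHom.ext fun x => ?_
      obtain ⟨y, rfl⟩ := eR.surjective x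
      show ResidueField.map (algebraMap B S) (eR.symm (eR y)) = ResidueField.map (algebraMap A S) (eR y)
      rw [eR.symm_apply_apply, hsq]
    · intro T' _ _ f hf τ hτ
      haveI := hf
      haveI : IsLocalHom (f.comp eBA.symm.toRingHom) :=
        ⟨fun a ha => by simpa using ((isUnit_map_iff f _).1 ha).map eBA⟩
      obtain ⟨g, ⟨hg, hgr⟩, hu⟩ := hAS.universal T' (f.comp eBA.symm.toRingHom) τ (RingHom.ext fun x => by
        obtain ⟨y, rfl⟩ := eR.surjective x
        obtain ⟨b, rfl⟩ := residue_surjective y
        show τ (ResidueField.map (algebraMap A S) (eR (residue B b))) = _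
        rw [← hsq]
        refine (RingHom.congr_fun hτ (residue B b)).trans ?_
        show residue T' (f b) = residue T' (f (eBA.symm (eBA b)))
        rw [eBA.symm_apply_apply])
      refine ⟨g, ⟨RingHom.ext fun b => ?_, hgr⟩, fun g' ⟨hg', hgr'⟩ => hu g' ⟨RingHom.ext fun a => ?_, hgr'⟩⟩
      · exact (RingHom.congr_fun hg (eBA b)).trans (congrArg f (eBA.symm_apply_apply b))
      · obtain ⟨b, rfl⟩ := hBA.2 a
        exact (RingHom.congr_fun hg' b).trans (congrArg f (eBA.symm_apply_apply b).symm)
  obtain ⟨e₁⟩ := exists_algEquiv_of_isStrictHenselization B S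
  obtain ⟨e₂⟩ := exists_algEquiv_of_isStrictHenselization B T
  exact ⟨(e₁.symm.trans e₂).toRingEquiv, fun b => (e₁.symm.trans e₂).commutes b⟩

end

end Groth.Agent.NLHensLib
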